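import Groth.Prelude.Def_CGrpSh
import Groth.Prelude.Def_Red
import Groth.Agent.CommAlg4.PtsLocal
import Groth.Agent.AlgSpLib.Descent
import Groth.Agent.AlgSpLib.FppfLocal
import Groth.Agent.AlgGrpLib.AbelianComplement
import Groth.Agent.AlgGrpLib.TorusToProper
import Groth.Agent.AlgGrpLib.TorusIsogenyIff
import Groth.Agent.AlgGrpLib.ImageSubgroup
import Groth.Agent.AlgGrpLib.AxesTorus
import Groth.Agent.SGA3cLib.MonoClosed
import Groth.Agent.TorusConnLib.Connected
import Groth.Agent.TorusAb27.Basic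

/-!
Extensions of tori by abelian varieties.
-/

set_option autoImplicit false
set_option backward.isDefEq.respectTransparency.types false
set_option linter.style.haveILetI false

universe u

open CategoryTheory CategoryTheory.Limits MonoidalCategory CartesianMonoidalCategory MonObj GrpObj AlgebraicGeometry
open Opposite

noncomputable section

namespace Groth.Agent.ExtTorus27

section Exact

variable {S : Scheme.{u}} {A E T : Over S} [GrpObj A] [IsCommMonObj A] [GrpObj E] [IsCommMonObj E]
  [GrpObj T] [IsCommMonObj T] (u : A ⟶ E) (v : E ⟶ T) [IsMonHom u] [IsMonHom v] (w : u ≫ v = 1)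

theorem eq_one_of_comp (hex : (CGrpSh.seq Scheme.fppfPrecoverage u v w).ShortExact) {W : Over S} (x : W ⟶ A)
    (h : x ≫ u = 1) : x = 1 := by
  haveI : Mono (CGrpSh.ptsMap Scheme.fppfPrecoverage u) := hex.mono_f
  let F : BigSite.Ab Scheme.fppfPrecoverage S ⥤ AddCommGrpCat.{u + 1} :=
    sheafToPresheaf _ _ ⋙ (evaluation (Over S)ᵒᵖ AddCommGrpCat.{u + 1}).obj (op W)
  have hm : Mono (F.map (CGrpSh.ptsMap Scheme.fppfPrecoverage u)) := inferInstance
  have hinj := (AddCommGrpCat.mono_iff_injective _).1 hm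
  have h2 := @hinj (ULift.up (Additive.ofMul x)) (ULift.up (Additive.ofMul 1))
    (ULift.ext _ _ (congrArg Additive.ofMul (show x ≫ u = (1 : W ⟶ A) ≫ u by rw [h, MonObj.one_comp])))
  exact congrArg (fun z => z.down.toMul) h2

theorem mono_left (hex : (CGrpSh.seq Scheme.fppfPrecoverage u v w).ShortExact) : Mono u := ⟨fun {W} x y h => by
  have := eq_one_of_comp u v w hex (x * y⁻¹) (by rw [MonObj.mul_comp, GrpObj.inv_comp, h, mul_inv_cancel])
  exact mul_inv_eq_one.1 this⟩

theorem isKernel (hex : (CGrpSh.seq Scheme.fppfPrecoverage u v w).ShortExact) : AlgGrp.IsKernel u v := by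
  haveI := mono_left u v w hex
  have key : ∀ (W : Over S) (x : W ⟶ E), x ≫ v = 1 → ∃ a : W ⟶ A, a ≫ u = x := fun W x hx => by
    have hmem := CommAlg4.PtsLocal.kerSieve_mem u v w hex.exact x hx
    have hch : ∀ (W' : Over S) (f : W' ⟶ W), (CommAlg4.PtsLocal.liftSieve u x).arrows f → ∃ a, a ≫ u = f ≫ x :=
      fun W' f hf => hf
    choose a ha using hch
    obtain ⟨z, hz⟩ := CommAlg4.PtsLocal.exists_glue hmem a (fun {W₁ W₂} p f hf => by
      rw [← cancel_mono u, ha, Category.assoc, Category.assoc, ha])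
    refine ⟨z, CommAlg4.PtsLocal.hom_ext hmem fun W' f hf => ?_⟩
    rw [← Category.assoc, hz f hf, ha W' f hf]
  have hw : u ≫ v = toUnit A ≫ η[T] := by rw [w, Hom.one_def]
  refine IsPullback.of_isLimit' ⟨hw⟩ (PullbackCone.IsLimit.mk _
    (fun s => (key s.pt s.fst (by rw [s.condition, Hom.one_def, toUnit_unique s.snd (toUnit _)])).choose)
    (fun s => (key s.pt s.fst (by rw [s.condition, Hom.one_def, toUnit_unique s.snd (toUnit _)])).choose_spec)
    (fun s => toUnit_unique _ _) (fun s m h1 _ => ?_))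
  rw [← cancel_mono u, h1]
  exact (key s.pt s.fst (by rw [s.condition, Hom.one_def, toUnit_unique s.snd (toUnit _)])).choose_spec.symm

theorem prop_of_section (hex : (CGrpSh.seq Scheme.fppfPrecoverage u v w).ShortExact)
    (P : MorphismProperty Scheme.{u}) [P.IsStableUnderBaseChange]
    [P.IsLocalAtTarget Scheme.fppfPrecoverage] (hA : P A.hom) : P v.left := by
  haveI : Epi (CGrpSh.ptsMap Scheme.fppfPrecoverage v) := hex.epi_g
  have hk := isKernel u v w hex
  haveI := mono_left u v w hex
  have hmem := CommAlg4.PtsLocal.liftSieve_mem v ‹_› (𝟙 T)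
  obtain ⟨R, hR, hle⟩ := AlgSpLib.exists_precoverage_of_mem hmem
  refine MorphismProperty.IsLocalAtTarget.of_forall_pullbackSnd (K := Scheme.fppfPrecoverage) hR ?_
  intro Z g _ hg
  obtain ⟨x, hx⟩ := hle g hg
  rw [Category.comp_id] at hx
  let W : Over S := Over.mk (g ≫ T.hom)
  let g' : W ⟶ T := Over.homMk g
  have hsq : IsPullback (lift (fst W A) ((fst W A ≫ x) * (snd W A ≫ u)) ≫ snd W E) (fst W A) v g' := by
    rw [lift_snd]
    have hc : ((fst W A ≫ x) * (snd W A ≫ u)) ≫ v = fst W A ≫ g' := by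
      rw [MonObj.mul_comp, Category.assoc, Category.assoc, w, MonObj.comp_one, _root_.mul_one, hx]
    refine IsPullback.of_isLimit' ⟨hc⟩ (PullbackCone.IsLimit.mk _
      (fun s => lift s.snd (hk.lift ((s.snd ≫ x)⁻¹ * s.fst) (toUnit _) ?_)) (fun s => ?_) (fun s => lift_fst _ _)
      (fun s m h1 h2 => ?_))
    · rw [MonObj.mul_comp, GrpObj.inv_comp, Category.assoc, hx, s.condition, inv_mul_cancel, Hom.one_def]
    · rw [MonObj.comp_mul, lift_fst_assoc, lift_snd_assoc, hk.lift_fst, mul_inv_cancel_left]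
    · refine CartesianMonoidalCategory.hom_ext _ _ (by rw [lift_fst, h2]) ?_
      rw [lift_snd, ← cancel_mono u, hk.lift_fst, ← h1, MonObj.comp_mul, ← h2, Category.assoc, Category.assoc,
        inv_mul_cancel_left]
  have h2 := hsq.map (Over.forget S)
  have hfst : P (fst W A).left := MorphismProperty.pullback_fst (P := P) W.hom A.hom hA
  have hiso : P (h2.isoPullback.inv ≫ (Over.forget S).map (fst W A)) :=
    (P.cancel_left_of_respectsIso _ _).2 hfst
  rwa [h2.isoPullback_inv_snd] at hiso

end Exact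

section Field

variable {k : Type u} [Field k] [IsAlgClosed k] {T A E : Over (Spec (CommRingCat.of k))}
  [GrpObj T] [IsCommMonObj T] [GrpObj A] [IsCommMonObj A] [GrpObj E] [IsCommMonObj E]

omit [IsAlgClosed k] in
theorem flat_surjective_spec {Ω : Type u} [Field Ω] (g : Spec (CommRingCat.of Ω) ⟶ Spec (CommRingCat.of k)) :
    Flat g ∧ Surjective g ∧ QuasiCompact g := by
  obtain ⟨φ, rfl⟩ := Spec.map_surjective g
  have h : Flat (Spec.map φ) ∧ Surjective (Spec.map φ) := by
    rw [flat_and_surjective_SpecMap_iff]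
    letI := φ.hom.toAlgebra
    exact (inferInstanceAs (Module.FaithfullyFlat k Ω))
  exact ⟨h.1, h.2, inferInstance⟩

theorem isIso_of_geomFibre {T₀ M : Over (Spec (CommRingCat.of k))} (f : T₀ ⟶ M)
    (s : ↥(Spec (CommRingCat.of k)))
    (h : IsIso ((Over.pullback (Red.geomPt s)).map f)) : IsIso f := by
  obtain ⟨hg₁, hg₂, hg₃⟩ := flat_surjective_spec (Red.geomPt s)
  haveI := hg₁
  haveI := hg₂
  haveI := hg₃
  haveI : IsIso ((Over.pullback (Red.geomPt s)).map f).left :=
    inferInstanceAs (IsIso ((Over.forget _).map ((Over.pullback (Red.geomPt s)).map f)))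
  have hq : (@Surjective ⊓ @Flat ⊓ @QuasiCompact : MorphismProperty Scheme.{u}) (pullback.fst M.hom (Red.geomPt s)) :=
    ⟨⟨inferInstance, inferInstance⟩, inferInstance⟩
  haveI : IsIso f.left := MorphismProperty.of_isPullback_of_descendsAlong
    (P := MorphismProperty.isomorphisms Scheme.{u}) (Q := @Surjective ⊓ @Flat ⊓ @QuasiCompact)
    (SGA3cLib.MultHomLocus.isPullback_map f (Red.geomPt s)).flip hq (‹IsIso ((Over.pullback (Red.geomPt s)).map f).left›)
  haveI : IsIso ((Over.forget _).map f) := ‹IsIso f.left›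
  exact isIso_of_reflects_iso f (Over.forget _)

theorem main (hT : Red.IsTorus T) [Smooth A.hom] [IsProper A.hom] [ConnectedSpace ↥A.left]
    (u : A ⟶ E) (v : E ⟶ T) [IsMonHom u] [IsMonHom v] (w : u ≫ v = 1)
    (hex : (CGrpSh.seq Scheme.fppfPrecoverage u v w).ShortExact) :
    Smooth E.hom ∧ ConnectedSpace ↥E.left ∧
      ∀ (T₀ : Over (Spec (CommRingCat.of k))) [GrpObj T₀] (i : T₀ ⟶ E), Red.IsMaximalTorus i →
        IsFinite (i ≫ v).left ∧ Flat (i ≫ v).left ∧ Surjective (i ≫ v).left := by
  haveI := mono_left u v w hex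
  have hk := isKernel u v w hex
  haveI : Surjective A.hom := ⟨fun y => ⟨(η[A]).left.base y, Subsingleton.elim _ _⟩⟩
  haveI : Smooth v.left := prop_of_section u v w hex @Smooth inferInstance
  haveI : IsProper v.left := prop_of_section u v w hex @IsProper inferInstance
  haveI : Surjective v.left := prop_of_section u v w hex @Surjective inferInstance
  haveI := AlgGrpLib.AxesTorus.smooth_of_isTorus hT
  haveI := TorusConnLib.connectedSpace T hT
  haveI := SGA3cLib.torus_isAffineHom hT
  haveI : Smooth E.hom := by rw [← Over.w v]; infer_instance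
  haveI : QuasiCompact E.hom := by rw [← Over.w v]; infer_instance
  haveI : IsSeparated E.hom := SGA3xLib.isSeparated_of_grpObj E
  haveI hEc : ConnectedSpace ↥E.left := AlgGrpLib.ExactSeqBasics.connectedSpace_of_kernel v u hk
  refine ⟨‹_›, ‹_›, ?_⟩
  intro T₀ _ i hi
  obtain ⟨hih, him, hT₀, hmax⟩ := hi
  haveI := hih
  haveI := him
  haveI := AlgGrpLib.AxesTorus.smooth_of_isTorus hT₀
  haveI := TorusConnLib.connectedSpace T₀ hT₀
  haveI := SGA3cLib.torus_isAffineHom hT₀
  haveI : QuasiCompact i.left := AlgGrpLib.quasiCompact_left i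
  haveI : IsClosedImmersion i.left := SGA3cLib.isClosedImmersion_of_mono i
  haveI : IsProper (i ≫ v).left := by rw [Over.comp_left]; infer_instance
  haveI : IsAffineHom (i ≫ v).left := by
    haveI : IsAffineHom ((i ≫ v).left ≫ T.hom) := by rw [Over.w (i ≫ v)]; infer_instance
    exact IsAffineHom.of_comp (i ≫ v).left T.hom
  have hfin : IsFinite (i ≫ v).left := IsFinite.iff_isProper_and_isAffineHom.2 ⟨‹_›, ‹_›⟩
  suffices hsur : Surjective (i ≫ v).left by
    haveI := hsur
    exact ⟨hfin, AlgGrpLib.IsogenyBC.flat_of_isogeny T₀ (i ≫ v), hsur⟩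
  haveI : IsClosedImmersion u.left := by
    haveI : IsProper (u.left ≫ E.hom) := by rw [Over.w u]; infer_instance
    haveI : IsProper u.left := IsProper.of_comp u.left E.hom
    exact (IsClosedImmersion.iff_isProper_and_mono u.left).2 ⟨‹_›, inferInstanceAs (Mono u.left)⟩
  obtain ⟨ψ, n, hn, hψ, huψ⟩ := AlgGrpLib.AbelianSubvariety.exists_hom u
  haveI := hψ
  obtain ⟨H, gH, h, hh, hhc, hHs, hHc, -, hHsur, hHfin⟩ :=
    AlgGrpLib.AbelianComplement.exists_connected_complement u
  letI := gH
  haveI := hh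
  haveI := hhc
  haveI := hHs
  haveI := hHc
  haveI := hHsur
  haveI : QuasiCompact H.hom := by rw [← Over.w h]; infer_instance
  haveI : IsCommMonObj H := by
    haveI : Mono h := Over.mono_of_mono_left h
    exact ⟨by rw [← cancel_mono h, Category.assoc, IsMonHom.mul_hom, ← Category.assoc,
      ← BraidedCategory.braiding_naturality, Category.assoc, IsCommMonObj.mul_comm]⟩
  haveI : Surjective (h ≫ v).left := by
    have he : (u ⊗ₘ h) ≫ μ[E] ≫ v = snd A H ≫ h ≫ v := by
      rw [← Category.assoc, show (u ⊗ₘ h) ≫ μ[E] = (fst A H ≫ u) * (snd A H ≫ h) by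
        rw [Hom.mul_def, ← lift_map, lift_fst_snd, Category.id_comp], MonObj.mul_comp, Category.assoc,
        Category.assoc, w, MonObj.comp_one, _root_.one_mul]
    haveI : Surjective ((snd A H).left ≫ (h ≫ v).left) := by
      rw [← Over.comp_left, ← he, ← Category.assoc, Over.comp_left]
      infer_instance
    exact Surjective.of_comp (snd A H).left _
  haveI hker : IsFinite (UnipStruct.kerObj (h ≫ v)).hom := by
    let κ := UnipStruct.kerι (h ≫ v)
    have h1 : (κ ≫ h) ≫ v = toUnit _ ≫ η[T] := by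
      rw [Category.assoc, (UnipStruct.isKernel_kerι (h ≫ v)).w]
    let a := hk.lift (κ ≫ h) (toUnit _) h1
    have ha : a ≫ u = κ ≫ h := hk.lift_fst _ _ _
    haveI : IsClosedImmersion κ.left := UnipStruct.isClosedImmersion_kerι (h ≫ v)
    let m : (UnipStruct.kerObj (h ≫ v)).left ⟶ pullback u.left h.left :=
      pullback.lift a.left κ.left (by rw [← Over.comp_left, ← Over.comp_left, ha])
    haveI : IsClosedImmersion (m ≫ pullback.snd u.left h.left) := by
      rw [pullback.lift_snd]; infer_instance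
    haveI : IsClosedImmersion m := IsClosedImmersion.of_comp m (pullback.snd u.left h.left)
    haveI : IsFinite (m ≫ pullback.fst u.left h.left ≫ A.hom) := inferInstance
    rwa [← Category.assoc, pullback.lift_fst, Over.w a] at this
  have hH : Red.IsTorus H := AlgGrpLib.TorusIsog.isTorus_of_isogeny hT (h ≫ v)
  have hHψ : h ≫ ψ = 1 := AlgGrpLib.TorusToProper.eq_one_of_torus hH _ (IsMonHom.one_hom _)
  have hT₀ψ : i ≫ ψ = 1 := AlgGrpLib.TorusToProper.eq_one_of_torus hT₀ _ (IsMonHom.one_hom _)
  let f := (i ⊗ₘ h) ≫ μ[E]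
  have hf : f = (fst T₀ H ≫ i) * (snd T₀ H ≫ h) := by
    simp only [f]; rw [Hom.mul_def, ← lift_map, lift_fst_snd, Category.id_comp]
  haveI : IsMonHom f := AlgGrpLib.AbelianComplement.isMonHom_mul i h fun X a b => mul_comm _ _
  haveI : Smooth (T₀ ⊗ H).hom := inferInstanceAs (Smooth (pullback.fst T₀.hom H.hom ≫ T₀.hom))
  haveI : QuasiCompact (T₀ ⊗ H).hom := inferInstanceAs (QuasiCompact (pullback.fst T₀.hom H.hom ≫ T₀.hom))
  haveI : ConnectedSpace (T₀ ⊗ H).left := by
    haveI := AlgGrpLib.AbelianSubvariety.geometricallyConnected_of_connected H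
    haveI : Surjective (pullback.fst T₀.hom H.hom) := by
      haveI : Surjective H.hom := ⟨fun y => ⟨(η[H]).left.base y, Subsingleton.elim _ _⟩⟩
      infer_instance
    exact inferInstanceAs (ConnectedSpace ↥(pullback T₀.hom H.hom))
  obtain ⟨M, gM, j, g, hj, hg, hjc, hgj, hgs, hgf, hMs, -, hMq⟩ := AlgGrpLib.ImageSubgroup.exists_image f
  letI := gM
  haveI := hj
  haveI := hg
  haveI := hjc
  haveI := hgs
  haveI := hMs
  haveI := hMq
  haveI : Mono j := Over.mono_of_mono_left j
  haveI : IsCommMonObj M := ⟨by rw [← cancel_mono j, Category.assoc, IsMonHom.mul_hom, ← Category.assoc,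
      ← BraidedCategory.braiding_naturality, Category.assoc, IsCommMonObj.mul_comm]⟩
  haveI : ConnectedSpace M.left := g.left.surjective.connectedSpace g.left.continuous
  have hjψ : j ≫ ψ = 1 := by
    haveI : Flat g.left := hgf
    haveI : QuasiCompact g.left := AlgGrpLib.quasiCompact_left g
    haveI : Epi g.left := Flat.epi_of_flat_of_surjective _
    haveI : Epi g := Over.epi_of_epi_left _
    rw [← cancel_epi g, ← Category.assoc, hgj, hf, MonObj.mul_comp, Category.assoc, Category.assoc, hHψ, hT₀ψ,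
      MonObj.comp_one, MonObj.comp_one, MonObj.comp_one, _root_.mul_one]
  let iH : H ⟶ M := lift 1 (𝟙 H) ≫ g
  have hiH : iH ≫ j = h := by
    rw [Category.assoc, hgj, hf, MonObj.comp_mul, lift_fst_assoc, lift_snd_assoc, MonObj.one_comp, _root_.one_mul,
      Category.id_comp]
  let iT : T₀ ⟶ M := lift (𝟙 T₀) 1 ≫ g
  have hiT : iT ≫ j = i := by
    rw [Category.assoc, hgj, hf, MonObj.comp_mul, lift_fst_assoc, lift_snd_assoc, MonObj.one_comp, _root_.mul_one,
      Category.id_comp]
  haveI : Surjective (j ≫ v).left := by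
    haveI : Surjective (iH.left ≫ (j ≫ v).left) := by
      rw [← Over.comp_left, ← Category.assoc, hiH]; infer_instance
    exact Surjective.of_comp iH.left _
  haveI hkerM : IsFinite (UnipStruct.kerObj (j ≫ v)).hom := by
    let κ := UnipStruct.kerι (j ≫ v)
    have h1 : (κ ≫ j) ≫ v = toUnit _ ≫ η[T] := by
      rw [Category.assoc, (UnipStruct.isKernel_kerι (j ≫ v)).w]
    let a := hk.lift (κ ≫ j) (toUnit _) h1
    have ha : a ≫ u = κ ≫ j := hk.lift_fst _ _ _
    haveI : IsClosedImmersion κ.left := UnipStruct.isClosedImmersion_kerι (j ≫ v)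
    let m : (UnipStruct.kerObj (j ≫ v)).left ⟶ pullback u.left j.left :=
      pullback.lift a.left κ.left (by rw [← Over.comp_left, ← Over.comp_left, ha])
    haveI : IsClosedImmersion (m ≫ pullback.snd u.left j.left) := by
      rw [pullback.lift_snd]; infer_instance
    haveI : IsClosedImmersion m := IsClosedImmersion.of_comp m (pullback.snd u.left j.left)
    haveI := AlgGrpLib.AbelianComplement.isFinite_inter u j ψ hjψ hn huψ
    haveI : IsFinite (m ≫ pullback.fst u.left j.left ≫ A.hom) := inferInstance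
    rwa [← Category.assoc, pullback.lift_fst, Over.w a] at this
  have hM : Red.IsTorus M := AlgGrpLib.TorusIsog.isTorus_of_isogeny hT (j ≫ v)
  haveI : Mono (iT ≫ j) := hiT.symm ▸ him
  haveI : Mono iT := mono_of_mono iT j
  let s : ↥(Spec (CommRingCat.of k)) := IsLocalRing.closedPoint k
  haveI : Mono ((Over.pullback (Red.geomPt s)).map j) := inferInstance
  have hiso : IsIso ((Over.pullback (Red.geomPt s)).map iT) :=
    hmax s (Red.bc (Red.geomPt s) M) ((Over.pullback (Red.geomPt s)).map j) ((Over.pullback (Red.geomPt s)).map iT)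
      (TorusAb27.isTorus_bc _ M hM) (by rw [← Functor.map_comp, hiT])
  haveI : IsIso iT := isIso_of_geomFibre iT s hiso
  have hfac : (iH ≫ inv iT) ≫ i = h := by
    rw [← hiT, Category.assoc, IsIso.inv_hom_id_assoc, hiH]
  haveI : Surjective ((iH ≫ inv iT).left ≫ (i ≫ v).left) := by
    rw [← Over.comp_left, ← Category.assoc, hfac]; infer_instance
  exact Surjective.of_comp (iH ≫ inv iT).left _

end Field

end Groth.Agent.ExtTorus27
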